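import Cfsg.Prelude.Def_Local
import Cfsg.Agent.Lib.Solvable.Core
import Mathlib.GroupTheory.SchurZassenhaus
import Mathlib.GroupTheory.Sylow

/-! Small facts on `p`-soluble groups used by the class-size and block statements. -/

set_option autoImplicit false

namespace CfsgLib.Blocks82

open Cfsg

variable {G : Type*} [Group G]

/-- Hall-Higman 1.2.3: in a `p`-soluble group with trivial `p'`-core, the `p`-core contains its
centralizer. -/
theorem centralizer_pCore_le [Finite G] {p : ℕ} [hp : Fact p.Prime] (hsolv : IsPSolvable p G)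
    (h1 : pPrimeCore p G = ⊥) :
    Subgroup.centralizer (pCore p G : Set G) ≤ pCore p G := by
  classical
  haveI hUn : (pCore p G).Normal := CfsgLib.Solvable.pCore_normal p G
  obtain ⟨n, H, h0, htop, hmono, hnor, hfac⟩ := hsolv
  set U := pCore p G with hU
  set C := Subgroup.centralizer (U : Set G) with hC
  haveI hCn : C.Normal := inferInstance
  -- every term of the chain meets `C` inside `U`
  suffices h : ∀ i : Fin (n + 1), C ⊓ H i ≤ U by
    have := h (Fin.last n)
    rwa [htop, inf_top_eq] at this
  intro i
  induction i using Fin.induction with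
  | zero => rw [h0, inf_bot_eq]; exact bot_le
  | succ i ih =>
    haveI := hnor i.castSucc
    haveI := hnor i.succ
    set D := C ⊓ H i.succ with hD
    haveI hDn : D.Normal := inferInstance
    set A := C ⊓ H i.castSucc with hA
    haveI hAn : A.Normal := inferInstance
    have hAD : A ≤ D := inf_le_inf_left _ (hmono (Fin.castSucc_le_succ i))
    have hApg : IsPGroup p A := (CfsgLib.Solvable.pCore_isPGroup p G).to_le ih
    obtain ⟨a, ha⟩ := IsPGroup.iff_card.mp hApg
    have hcard : Nat.card A * A.relIndex D = Nat.card D := by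
      have := Subgroup.relIndex_mul_relIndex ⊥ A D bot_le hAD
      rwa [Subgroup.relIndex_bot_left, Subgroup.relIndex_bot_left] at this
    have hrel : A.relIndex D ∣ (H i.castSucc).relIndex (H i.succ) := by
      have h2 : A.relIndex D = (H i.castSucc).relIndex D := by
        rw [hA, ← Subgroup.inf_relIndex_right (C ⊓ H i.castSucc) D,
          ← Subgroup.inf_relIndex_right (H i.castSucc) D]
        congr 1
        rw [hD]
        ext x
        simp only [Subgroup.mem_inf]
        tauto
      rw [h2, ← Subgroup.relIndex_subgroupOf (H := H i.castSucc) (inf_le_right : D ≤ H i.succ)]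
      exact Subgroup.relIndex_dvd_index_of_normal _ _
    rcases hfac i with ⟨m, hm⟩ | hco
    · obtain ⟨k, -, hk⟩ := (Nat.dvd_prime_pow hp.out).mp (hm ▸ hrel)
      refine CfsgLib.Solvable.le_pCore hDn (IsPGroup.iff_card.mpr ⟨a + k, ?_⟩)
      rw [← hcard, ha, hk, pow_add]
    · have hco' : (A.relIndex D).Coprime p := Nat.Coprime.coprime_dvd_left hrel hco
      have hco'' : (Nat.card (A.subgroupOf D)).Coprime (A.subgroupOf D).index := by
        rw [Nat.card_congr (Subgroup.subgroupOfEquivOfLe hAD).toEquiv, ha]
        exact (Nat.Coprime.pow_left a hco'.symm)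
      obtain ⟨K, hK⟩ := Subgroup.exists_right_complement'_of_coprime hco''
      -- `K` is normal in `G`, hence trivial
      set k := Nat.card K with hk
      have hkco : k.Coprime p := by
        rw [hk, ← hK.symm.index_eq_card]; exact hco'
      have hiff : ∀ x : G, x ∈ K.map D.subtype ↔ x ∈ D ∧ x ^ k = 1 := by
        intro x
        constructor
        · rintro ⟨y, hy, rfl⟩
          refine ⟨y.2, ?_⟩
          have := pow_card_eq_one' (x := (⟨y, hy⟩ : K))
          rw [hk]
          exact congrArg (fun z : K => ((z : D) : G)) this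
        · rintro ⟨hxD, hxk⟩
          obtain ⟨⟨⟨u, hu⟩, ⟨v, hv⟩⟩, huv⟩ := hK.2 ⟨x, hxD⟩
          have huv' : (u : G) * (v : G) = x := congrArg Subtype.val huv
          have huU : (u : G) ∈ U := ih (Subgroup.mem_subgroupOf.mp hu)
          have hcomm : Commute (u : G) (v : G) :=
            Subgroup.mem_centralizer_iff.mp (Subgroup.mem_inf.mp v.2).1 _ huU
          have hvk : (v : G) ^ k = 1 := by
            have := pow_card_eq_one' (x := (⟨v, hv⟩ : K))
            rw [hk]
            exact congrArg (fun z : K => ((z : D) : G)) this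
          have huk : (u : G) ^ k = 1 := by
            have := hxk
            rw [← huv', hcomm.mul_pow, hvk, mul_one] at this
            exact this
          have hord : orderOf (u : G) = 1 := by
            refine Nat.eq_one_of_dvd_coprimes ((Nat.Coprime.pow_left a hkco.symm)) ?_
              (orderOf_dvd_of_pow_eq_one huk)
            rw [← ha]
            exact Subgroup.orderOf_dvd_natCard _ (Subgroup.mem_subgroupOf.mp hu)
          refine ⟨v, hv, ?_⟩
          rw [Subgroup.coe_subtype, ← huv', orderOf_eq_one_iff.mp hord, one_mul]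
      have hKn : (K.map D.subtype).Normal := ⟨fun x hx g => by
        rw [hiff] at hx ⊢
        exact ⟨hDn.conj_mem x hx.1 g, by rw [conj_pow, hx.2, mul_one, mul_inv_cancel]⟩⟩
      have hKb : K.map D.subtype = ⊥ := CfsgLib.Solvable.pPrimeCore_eq_bot_iff.mp h1 _ hKn
        (by rw [Subgroup.card_map_of_injective D.subtype_injective]; exact hkco)
      intro x hx
      obtain ⟨⟨⟨u, hu⟩, ⟨v, hv⟩⟩, huv⟩ := hK.2 ⟨x, hx⟩
      have hv1 : (v : G) = 1 := Subgroup.mem_bot.mp (hKb ▸ ⟨v, hv, rfl⟩)
      have huv' : (u : G) * (v : G) = x := congrArg Subtype.val huv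
      rw [← huv', hv1, mul_one]
      exact ih (Subgroup.mem_subgroupOf.mp hu)

/-- Quotients of `p`-soluble groups are `p`-soluble. -/
theorem isPSolvable_quotient {p : ℕ} [hp : Fact p.Prime] (hsolv : IsPSolvable p G) (N : Subgroup G)
    [N.Normal] : IsPSolvable p (G ⧸ N) := by
  obtain ⟨n, H, h0, htop, hmono, hnor, hfac⟩ := hsolv
  set f := QuotientGroup.mk' N with hf
  refine ⟨n, fun i => (H i).map f, ?_, ?_, ?_, fun i => (hnor i).map f (QuotientGroup.mk'_surjective N), ?_⟩
  · simp [h0]
  · simp only [htop]
    exact Subgroup.map_top_of_surjective f (QuotientGroup.mk'_surjective N)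
  · exact fun i j hij => Subgroup.map_mono (hmono hij)
  · intro i
    haveI := hnor i.castSucc
    have hdvd : ((H i.castSucc).map f).relIndex ((H i.succ).map f) ∣
        (H i.castSucc).relIndex (H i.succ) := by
      rw [Subgroup.relIndex_map_map, hf, QuotientGroup.ker_mk']
      haveI : (H i.castSucc ⊔ N).Normal := inferInstance
      have h1 : (H i.castSucc ⊔ N).relIndex (H i.succ ⊔ N) = (H i.castSucc ⊔ N).relIndex (H i.succ) := by
        rw [← Subgroup.relIndex_sup_right (H i.succ) (H i.castSucc ⊔ N)]
        congr 1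
        rw [← sup_assoc, sup_eq_left.mpr (hmono (Fin.castSucc_le_succ i))]
      rw [h1]
      exact Subgroup.relIndex_dvd_of_le_left _ le_sup_left
    rcases hfac i with ⟨m, hm⟩ | hco
    · obtain ⟨k, -, hk⟩ := (Nat.dvd_prime_pow hp.out).mp (hm ▸ hdvd)
      exact Or.inl ⟨k, hk⟩
    · exact Or.inr (Nat.Coprime.coprime_dvd_left hdvd hco)

/-- A normal subgroup of order prime to `p` that contains a Sylow `q`-subgroup: some Sylow
`p`-subgroup normalizes some Sylow `q`-subgroup. -/
theorem exists_sylow_le_normalizer [Finite G] {p q : ℕ} [hp : Fact p.Prime] [Fact q.Prime]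
    (K : Subgroup G) [K.Normal] (hKp : (Nat.card K).Coprime p) (hKq : ¬ q ∣ K.index) :
    ∃ (P : Sylow p G) (Q : Sylow q G),
      (P : Subgroup G) ≤ Subgroup.normalizer ((Q : Subgroup G) : Set G) := by
  obtain ⟨Q⟩ := (inferInstance : Nonempty (Sylow q G))
  have hQK : (Q : Subgroup G) ≤ K := by
    intro x hx
    rw [← QuotientGroup.eq_one_iff, ← orderOf_eq_one_iff]
    obtain ⟨k, hk⟩ := Q.isPGroup' ⟨x, hx⟩
    have h1 : orderOf (x : G ⧸ K) ∣ q ^ k := by
      refine orderOf_dvd_of_pow_eq_one ?_
      have := congrArg Subtype.val hk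
      simp only [SubmonoidClass.coe_pow, OneMemClass.coe_one] at this
      rw [← QuotientGroup.mk_pow, this, QuotientGroup.mk_one]
    have h2 : orderOf (x : G ⧸ K) ∣ K.index := by
      rw [Subgroup.index_eq_card]; exact orderOf_dvd_natCard _
    exact Nat.eq_one_of_dvd_coprimes
      (((Fact.out : q.Prime).coprime_iff_not_dvd.mpr hKq).pow_left k) h1 h2
  set N := Subgroup.normalizer ((Q : Subgroup G) : Set G) with hN
  obtain ⟨S⟩ := (inferInstance : Nonempty (Sylow p N))
  have hfr : N ⊔ K = ⊤ := Sylow.normalizer_sup_eq_top' Q hQK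
  have hidx : ¬ p ∣ N.index := by
    have : N.index ∣ Nat.card K := by
      have h3 := Subgroup.relIndex_sup_right N K
      rw [hfr, Subgroup.relIndex_top_right] at h3
      have h4 := Subgroup.relIndex_mul_index (inf_le_left : N ⊓ K ≤ N)
      have h5 := Subgroup.relIndex_mul_index (inf_le_right : N ⊓ K ≤ K)
      rw [inf_comm N K, Subgroup.inf_relIndex_right, ← h3, inf_comm K N] at h4
      have h6 : N.index = (N ⊓ K).relIndex K := by
        refine Nat.eq_of_mul_eq_mul_left (Nat.pos_of_ne_zero (Subgroup.index_ne_zero_of_finite (H := K))) ?_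
        rw [h4, ← h5, mul_comm]
      rw [h6]
      exact Subgroup.relIndex_dvd_card _ _
    exact fun h => hp.out.coprime_iff_not_dvd.mp hKp.symm (h.trans this)
  obtain ⟨P, hP⟩ := (S.isPGroup'.map N.subtype).exists_le_sylow
  refine ⟨P, Q, ?_⟩
  have hcard : Nat.card (P : Subgroup G) = Nat.card ((S : Subgroup N).map N.subtype) := by
    rw [Subgroup.card_map_of_injective N.subtype_injective, P.card_eq_multiplicity,
      S.card_eq_multiplicity, ← N.card_mul_index,
      Nat.factorization_mul Nat.card_pos.ne' Subgroup.index_ne_zero_of_finite, Finsupp.add_apply,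
      Nat.factorization_eq_zero_of_not_dvd hidx, add_zero]
  rw [← Subgroup.eq_of_le_of_card_ge hP hcard.le]
  exact Subgroup.map_subtype_le _

end CfsgLib.Blocks82
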